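import Mathlib
import Groth.Prelude.Def_Mor2
import Groth.Agent.ImmDescent.QuasiAffine

/-!
# Composition and base change of quasi-affine morphisms
-/

set_option autoImplicit false
universe u

open CategoryTheory CategoryTheory.Limits AlgebraicGeometry

namespace Groth.Agent.QuasiAffMor

theorem isQuasiAffine_of_isImmersion' {A B : Scheme.{u}} (e : A ⟶ B) [IsImmersion e] [QuasiCompact e]
    (hB : Scheme.IsQuasiAffine B) : Scheme.IsQuasiAffine A := by
  have := QuasiCompact.compactSpace_of_compactSpace e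
  exact Scheme.IsQuasiAffine.of_isImmersion e

/-- A compact scheme covered by quasi-affine basic opens of global sections is quasi-affine. -/
theorem isQuasiAffine_of_basicOpen (W : Scheme.{u}) [CompactSpace W]
    (H : ∀ x : W, ∃ t : Γ(W, ⊤), x ∈ W.basicOpen t ∧
      Scheme.IsQuasiAffine ((W.basicOpen t : W.Opens) : Scheme.{u})) :
    Scheme.IsQuasiAffine W := by
  choose t hxt hQA using H
  have : QuasiSeparatedSpace W := by
    refine .of_isOpenCover (U := fun x => W.basicOpen (t x))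
      (eq_top_iff.mpr fun x _ ↦ TopologicalSpace.Opens.mem_iSup.mpr ⟨x, hxt x⟩)
      (fun _ ↦ isRetrocompact_basicOpen _) fun x ↦ ?_
    have := hQA x
    exact (isQuasiSeparated_iff_quasiSeparatedSpace _ (W.basicOpen (t x)).2).mpr
      (inferInstanceAs (QuasiSeparatedSpace ↥((W.basicOpen (t x) : W.Opens) : Scheme.{u})))
  refine .of_forall_exists_mem_basicOpen W fun x => ?_
  let t' : Γ(W, ⊤) := t x
  have hxt' : x ∈ W.basicOpen t' := hxt x
  have hW : Scheme.IsQuasiAffine ((W.basicOpen t' : W.Opens) : Scheme.{u}) := hQA x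
  obtain ⟨_, ⟨_, ⟨r, hr, rfl⟩, rfl⟩, hxr, -⟩ :=
    (Scheme.IsQuasiAffine.isBasis_basicOpen ((W.basicOpen t' : W.Opens) : Scheme.{u})).exists_subset_of_mem_open
      (Set.mem_univ ⟨x, hxt'⟩) isOpen_univ
  let r' : Γ(W, W.basicOpen t') := W.presheaf.map (eqToHom (W.basicOpen t').ι_image_top.symm).op r
  have hr' : (W.basicOpen t').ι ''ᵁ Scheme.basicOpen _ r = W.basicOpen r' :=
    Scheme.Opens.ι_image_basicOpen' (W.basicOpen t') r
  have hraff : IsAffineOpen (W.basicOpen r') := hr' ▸ hr.image_of_isOpenImmersion _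
  have hxr' : x ∈ W.basicOpen r' := hr' ▸ ⟨⟨x, hxt'⟩, hxr, rfl⟩
  have := isLocalization_basicOpen_of_qcqs (X := W) (U := ⊤) isCompact_univ isQuasiSeparated_univ t'
  obtain ⟨⟨a, ⟨_, n, rfl⟩⟩, ha⟩ := IsLocalization.surj (Submonoid.powers t') r'
  let ρ := W.presheaf.map (homOfLE (le_top : W.basicOpen t' ≤ ⊤)).op
  have hu : IsUnit (ρ t') :=
    IsLocalization.map_units Γ(W, W.basicOpen t') (⟨t', Submonoid.mem_powers t'⟩ : Submonoid.powers t')
  have he : W.basicOpen (a * t') = W.basicOpen r' := by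
    have h1 : W.basicOpen (ρ a) = W.basicOpen t' ⊓ W.basicOpen a := Scheme.basicOpen_res _ _ _
    have h2 : W.basicOpen (ρ a) = W.basicOpen r' := by
      change r' * ρ (t' ^ n) = ρ a at ha
      rw [← ha, map_pow, Scheme.basicOpen_mul, W.basicOpen_of_isUnit (hu.pow n)]
      exact inf_eq_left.mpr (W.basicOpen_le r')
    rw [Scheme.basicOpen_mul, inf_comm, ← h1, h2]
  exact ⟨a * t', he ▸ hraff, he ▸ hxr'⟩

/-- The preimage of a quasi-affine open under a quasi-affine morphism is quasi-affine. -/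
theorem isQuasiAffine_preimage {X Y : Scheme.{u}} (f : X ⟶ Y) (hf : Mor2.IsQuasiAffine f) (W : Y.Opens)
    (hW : Scheme.IsQuasiAffine (W : Scheme.{u})) : Scheme.IsQuasiAffine (f ⁻¹ᵁ W : Scheme.{u}) := by
  have := hf.1
  have : CompactSpace ↥((f ⁻¹ᵁ W : X.Opens) : Scheme.{u}) :=
    QuasiCompact.compactSpace_of_compactSpace (f ∣_ W)
  refine isQuasiAffine_of_basicOpen _ fun x => ?_
  obtain ⟨_, ⟨_, ⟨r, hr, rfl⟩, rfl⟩, hxr, -⟩ :=
    (Scheme.IsQuasiAffine.isBasis_basicOpen (W : Scheme.{u})).exists_subset_of_mem_open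
      (Set.mem_univ ((f ∣_ W) x)) isOpen_univ
  refine ⟨(f ∣_ W).appTop r, ?_, ?_⟩
  · rw [← Scheme.preimage_basicOpen_top]; exact hxr
  · have hO : IsAffineOpen (W.ι ''ᵁ (W : Scheme.{u}).basicOpen r) := hr.image_of_isOpenImmersion _
    have h := hf.2 _ hO
    rw [← Scheme.preimage_basicOpen_top]
    let e := (f ⁻¹ᵁ W).ι.isoImage ((f ∣_ W) ⁻¹ᵁ (W : Scheme.{u}).basicOpen r) ≪≫
      X.isoOfEq (image_morphismRestrict_preimage f W _)
    exact isQuasiAffine_of_isImmersion' e.hom h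

theorem comp {X Y Z : Scheme.{u}} (f : X ⟶ Y) (g : Y ⟶ Z) (hf : Mor2.IsQuasiAffine f)
    (hg : Mor2.IsQuasiAffine g) : Mor2.IsQuasiAffine (f ≫ g) := by
  have := hf.1
  have := hg.1
  exact ⟨inferInstance, fun V hV => isQuasiAffine_preimage f hf _ (hg.2 V hV)⟩

theorem baseChange {X Y Y' : Scheme.{u}} (f : X ⟶ Y) (hf : Mor2.IsQuasiAffine f) (g : Y' ⟶ Y) :
    Mor2.IsQuasiAffine (pullback.snd f g) := by
  have := hf.1
  refine ⟨inferInstance, fun V' hV' => ?_⟩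
  set p := pullback.snd f g with hp
  have : IsAffine (V' : Scheme.{u}) := hV'
  refine ImmDescent.isQuasiAffine_of_local (p ∣_ V') fun s => ?_
  obtain ⟨_, ⟨(V : Y.Opens), hV, rfl⟩, hsV, -⟩ :=
    Y.isBasis_affineOpens.exists_subset_of_mem_open (Set.mem_univ (g (V'.ι s))) isOpen_univ
  obtain ⟨_, ⟨(O : Y'.Opens), hO, rfl⟩, hsO, hOle⟩ :=
    Y'.isBasis_affineOpens.exists_subset_of_mem_open
      (show V'.ι s ∈ V' ⊓ g ⁻¹ᵁ V from ⟨s.2, hsV⟩) (V' ⊓ g ⁻¹ᵁ V).2
  have hO1 : O ≤ V' := fun y hy => (hOle hy).1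
  have hO2 : O ≤ g ⁻¹ᵁ V := fun y hy => (hOle hy).2
  refine ⟨V'.ι ⁻¹ᵁ O, hO.preimage_of_isOpenImmersion V'.ι (by simpa using hO1), hsO, ?_⟩
  have : IsAffine (O : Scheme.{u}) := hO
  have : IsAffine (V : Scheme.{u}) := hV
  have : Scheme.IsQuasiAffine (f ⁻¹ᵁ V : Scheme.{u}) := hf.2 V hV
  have hA : Scheme.IsQuasiAffine (pullback (f ∣_ V) (g.resLE V O hO2)) :=
    have : IsAffineHom (pullback.fst (f ∣_ V) (g.resLE V O hO2)) :=
      MorphismProperty.pullback_fst _ _ (inferInstance : IsAffineHom (g.resLE V O hO2))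
    Scheme.IsQuasiAffine.of_isAffineHom (pullback.fst (f ∣_ V) (g.resLE V O hO2))
  have h1 := (IsPullback.of_hasPullback (f ∣_ V) (g.resLE V O hO2)).paste_horiz
    (isPullback_morphismRestrict f V).flip
  rw [Scheme.Hom.resLE_comp_ι] at h1
  have h2 := (isPullback_morphismRestrict p O).flip.paste_horiz (IsPullback.of_hasPullback f g)
  have hQ : Scheme.IsQuasiAffine (p ⁻¹ᵁ O : Scheme.{u}) :=
    isQuasiAffine_of_isImmersion' (h2.isoIsPullback _ _ h1).hom hA
  have hle : (p ⁻¹ᵁ V').ι ''ᵁ ((p ∣_ V') ⁻¹ᵁ (V'.ι ⁻¹ᵁ O)) = p ⁻¹ᵁ O := by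
    rw [image_morphismRestrict_preimage, Scheme.Hom.image_preimage_eq_opensRange_inf,
      Scheme.Opens.opensRange_ι, inf_eq_right.mpr hO1]
  exact isQuasiAffine_of_isImmersion'
    ((p ⁻¹ᵁ V').ι.isoImage _ ≪≫ (pullback f g).isoOfEq hle).hom hQ

end Groth.Agent.QuasiAffMor
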