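import Mathlib
import Groth.Prelude.Def_MoreMor
import Groth.Agent.QuasiAffMor.Basic

/-!
# Ind-quasi-affine morphisms
-/

set_option autoImplicit false
universe u

open CategoryTheory CategoryTheory.Limits AlgebraicGeometry TopologicalSpace

namespace Groth.Agent.QuasiAffMor

theorem isQuasiAffine_image_iff {X Y : Scheme.{u}} (j : Y ⟶ X) [IsOpenImmersion j] (O : Y.Opens) :
    Scheme.IsQuasiAffine ((j ''ᵁ O : X.Opens) : Scheme.{u}) ↔ Scheme.IsQuasiAffine (O : Scheme.{u}) :=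
  ⟨fun h => isQuasiAffine_of_isImmersion' (j.isoImage O).hom h,
    fun h => isQuasiAffine_of_isImmersion' (j.isoImage O).inv h⟩

theorem isIndQuasiAffineHom_iff {X Y : Scheme.{u}} (f : X ⟶ Y) :
    MoreMor.IsIndQuasiAffineHom f ↔ ∀ V : Y.Opens, IsAffineOpen V → ∀ U : X.Opens, U ≤ f ⁻¹ᵁ V →
      IsCompact (U : Set X) → Scheme.IsQuasiAffine (U : Scheme.{u}) := by
  constructor
  · intro h V hV U hU hc
    have he : (f ⁻¹ᵁ V).ι ''ᵁ ((f ⁻¹ᵁ V).ι ⁻¹ᵁ U) = U := by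
      rw [Scheme.Hom.image_preimage_eq_opensRange_inf, Scheme.Opens.opensRange_ι, inf_eq_right.mpr hU]
    have hc' : IsCompact (((f ⁻¹ᵁ V).ι ⁻¹ᵁ U : (f ⁻¹ᵁ V : Scheme.{u}).Opens) : Set (f ⁻¹ᵁ V : Scheme.{u})) := by
      rw [(f ⁻¹ᵁ V).ι.isOpenEmbedding.isCompact_iff]
      rw [← Scheme.Hom.coe_image, he]; exact hc
    have := (isQuasiAffine_image_iff (f ⁻¹ᵁ V).ι _).mpr (h V hV _ hc')
    exact isQuasiAffine_of_isImmersion' (X.isoOfEq he).inv this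
  · intro h V hV O hO
    refine (isQuasiAffine_image_iff (f ⁻¹ᵁ V).ι O).mp (h V hV _ ?_ ?_)
    · exact (f ⁻¹ᵁ V).ι_image_le O
    · rw [Scheme.Hom.coe_image]; exact hO.image (f ⁻¹ᵁ V).ι.continuous

theorem exists_compact_open {X : Scheme.{u}} {K : Set X} (hK : IsCompact K) (O : X.Opens) (h : K ⊆ (O : Set X)) :
    ∃ W : X.Opens, IsCompact (W : Set X) ∧ K ⊆ (W : Set X) ∧ W ≤ O := by
  let ι := {V : X.Opens // IsAffineOpen V ∧ V ≤ O}
  obtain ⟨t, ht⟩ := hK.elim_finite_subcover (fun i : ι => (i.1 : Set X)) (fun i => i.1.2) fun x hx => by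
    obtain ⟨_, ⟨(V : X.Opens), hV, rfl⟩, hxV, hVO⟩ :=
      X.isBasis_affineOpens.exists_subset_of_mem_open (h hx) O.2
    exact Set.mem_iUnion.mpr ⟨⟨V, hV, fun y hy => hVO hy⟩, hxV⟩
  refine ⟨⨆ i : t, (i.1.1 : X.Opens), ?_, ?_, iSup_le fun i => i.1.2.2⟩
  · rw [TopologicalSpace.Opens.coe_iSup]
    exact isCompact_iUnion fun i => i.1.2.1.isCompact
  · intro x hx
    obtain ⟨i, hi, hxi⟩ := Set.mem_iUnion₂.mp (ht hx)
    exact TopologicalSpace.Opens.mem_iSup.mpr ⟨⟨i, hi⟩, hxi⟩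

theorem quasiCompact_resLE {X Y : Scheme.{u}} (f : X ⟶ Y) {V : Y.Opens} {U : X.Opens} (h : U ≤ f ⁻¹ᵁ V)
    (hU : IsCompact (U : Set X)) (hV : IsQuasiSeparated (V : Set Y)) : QuasiCompact (f.resLE V U h) := by
  have : CompactSpace (U : Scheme.{u}) := isCompact_iff_compactSpace.mp hU
  have : QuasiSeparatedSpace (V : Scheme.{u}) := (isQuasiSeparated_iff_quasiSeparatedSpace _ V.2).mp hV
  exact quasiCompact_of_compactSpace _

theorem image_resLE_preimage {X Y : Scheme.{u}} (f : X ⟶ Y) {V : Y.Opens} {U : X.Opens} (h : U ≤ f ⁻¹ᵁ V)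
    (O : (V : Scheme.{u}).Opens) : U.ι ''ᵁ ((f.resLE V U h) ⁻¹ᵁ O) = U ⊓ f ⁻¹ᵁ (V.ι ''ᵁ O) := by
  rw [Scheme.Hom.resLE_preimage, Scheme.Hom.image_preimage_eq_opensRange_inf, Scheme.Opens.opensRange_ι]

theorem isCompact_inf_preimage {X Y : Scheme.{u}} (f : X ⟶ Y) {V : Y.Opens} {U : X.Opens} (h : U ≤ f ⁻¹ᵁ V)
    (hU : IsCompact (U : Set X)) (hV : IsQuasiSeparated (V : Set Y)) {O : Y.Opens} (hO : O ≤ V)
    (hOc : IsCompact (O : Set Y)) : IsCompact ((U ⊓ f ⁻¹ᵁ O : X.Opens) : Set X) := by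
  have := quasiCompact_resLE f h hU hV
  have he : V.ι ''ᵁ (V.ι ⁻¹ᵁ O) = O := by
    rw [Scheme.Hom.image_preimage_eq_opensRange_inf, Scheme.Opens.opensRange_ι, inf_eq_right.mpr hO]
  have hc : IsCompact ((V.ι ⁻¹ᵁ O : (V : Scheme.{u}).Opens) : Set (V : Scheme.{u})) := by
    rw [V.ι.isOpenEmbedding.isCompact_iff, ← Scheme.Hom.coe_image, he]; exact hOc
  have h2 := ((f.resLE V U h).isCompact_preimage hc).image U.ι.continuous
  have h3 := image_resLE_preimage f h (V.ι ⁻¹ᵁ O)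
  rw [he] at h3
  rw [← h3, Scheme.Hom.coe_image]
  exact h2

theorem isQuasiAffine_of_local_base {X Y : Scheme.{u}} (f : X ⟶ Y) {V : Y.Opens} (hV : IsAffineOpen V)
    {U : X.Opens} (h : U ≤ f ⁻¹ᵁ V) (hU : IsCompact (U : Set X))
    (H : ∀ y : Y, y ∈ V → ∃ O : Y.Opens, IsAffineOpen O ∧ y ∈ O ∧ O ≤ V ∧
      Scheme.IsQuasiAffine ((U ⊓ f ⁻¹ᵁ O : X.Opens) : Scheme.{u})) :
    Scheme.IsQuasiAffine (U : Scheme.{u}) := by
  have : IsAffine (V : Scheme.{u}) := hV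
  have := quasiCompact_resLE f h hU hV.isQuasiSeparated
  refine ImmDescent.isQuasiAffine_of_local (f.resLE V U h) fun s => ?_
  obtain ⟨O, hO, hsO, hOV, hQ⟩ := H (V.ι s) s.2
  refine ⟨V.ι ⁻¹ᵁ O, hO.preimage_of_isOpenImmersion V.ι (by simpa using hOV), hsO, ?_⟩
  have he : V.ι ''ᵁ (V.ι ⁻¹ᵁ O) = O := by
    rw [Scheme.Hom.image_preimage_eq_opensRange_inf, Scheme.Opens.opensRange_ι, inf_eq_right.mpr hOV]
  have h3 := image_resLE_preimage f h (V.ι ⁻¹ᵁ O)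
  rw [he] at h3
  exact (isQuasiAffine_image_iff U.ι _).mp (isQuasiAffine_of_isImmersion' (X.isoOfEq h3).hom hQ)

theorem isQuasiAffineHom_iff {X Y : Scheme.{u}} (f : X ⟶ Y) :
    MoreMor.IsQuasiAffineHom f ↔ Mor2.IsQuasiAffine f := Iff.rfl

theorem isQuasiAffine_of_le {X : Scheme.{u}} {U U' : X.Opens} (h : U ≤ U') (hU : IsCompact (U : Set X))
    (hQ : Scheme.IsQuasiAffine (U' : Scheme.{u})) : Scheme.IsQuasiAffine (U : Scheme.{u}) := by
  have : CompactSpace (U : Scheme.{u}) := isCompact_iff_compactSpace.mp hU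
  exact Scheme.IsQuasiAffine.of_isImmersion (X.homOfLE h)

theorem ind_of_qa {X Y : Scheme.{u}} (f : X ⟶ Y) (hf : MoreMor.IsQuasiAffineHom f) :
    MoreMor.IsIndQuasiAffineHom f :=
  (isIndQuasiAffineHom_iff f).mpr fun V hV _ hU hc => isQuasiAffine_of_le hU hc (hf.2 V hV)

theorem ind_of_isImmersion {X Y : Scheme.{u}} (f : X ⟶ Y) [IsImmersion f] :
    MoreMor.IsIndQuasiAffineHom f := by
  refine (isIndQuasiAffineHom_iff f).mpr fun V hV U hU hc => ?_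
  have : IsAffine (V : Scheme.{u}) := hV
  have : CompactSpace (U : Scheme.{u}) := isCompact_iff_compactSpace.mp hc
  have : IsImmersion (f.resLE V U hU) := by
    have : IsImmersion (f.resLE V U hU ≫ V.ι) := by rw [Scheme.Hom.resLE_comp_ι]; infer_instance
    exact IsImmersion.of_comp _ V.ι
  exact Scheme.IsQuasiAffine.of_isImmersion (f.resLE V U hU)

theorem ind_comp {X Y Z : Scheme.{u}} (f : X ⟶ Y) (g : Y ⟶ Z) (hf : MoreMor.IsIndQuasiAffineHom f)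
    (hg : MoreMor.IsIndQuasiAffineHom g) : MoreMor.IsIndQuasiAffineHom (f ≫ g) := by
  rw [isIndQuasiAffineHom_iff] at hf hg ⊢
  intro V hV U hU hc
  obtain ⟨W, hWc, hUW, hWV⟩ := exists_compact_open (hc.image f.continuous) (g ⁻¹ᵁ V)
    (by rintro _ ⟨x, hx, rfl⟩; exact hU hx)
  have hQW := hg V hV W hWV hWc
  have hUW' : U ≤ f ⁻¹ᵁ W := fun x hx => hUW ⟨x, hx, rfl⟩
  have : CompactSpace (U : Scheme.{u}) := isCompact_iff_compactSpace.mp hc
  have hWqs : IsQuasiSeparated (W : Set Y) :=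
    (isQuasiSeparated_iff_quasiSeparatedSpace _ W.2).mpr
      (inferInstanceAs (QuasiSeparatedSpace (W : Scheme.{u})))
  refine isQuasiAffine_of_basicOpen _ fun x => ?_
  obtain ⟨_, ⟨_, ⟨r, hr, rfl⟩, rfl⟩, hxr, -⟩ :=
    (Scheme.IsQuasiAffine.isBasis_basicOpen (W : Scheme.{u})).exists_subset_of_mem_open
      (Set.mem_univ ((f.resLE W U hUW') x)) isOpen_univ
  refine ⟨(f.resLE W U hUW').appTop r, ?_, ?_⟩
  · rw [← Scheme.preimage_basicOpen_top]; exact hxr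
  · rw [← Scheme.preimage_basicOpen_top]
    refine (isQuasiAffine_image_iff U.ι _).mp (isQuasiAffine_of_isImmersion'
      (X.isoOfEq (image_resLE_preimage f hUW' _)).hom ?_)
    have hO : IsAffineOpen (W.ι ''ᵁ (W : Scheme.{u}).basicOpen r) := hr.image_of_isOpenImmersion _
    exact hf _ hO _ inf_le_right
      (isCompact_inf_preimage f hUW' hc hWqs (W.ι_image_le _) hO.isCompact)

theorem ind_of_comp {X Y Z : Scheme.{u}} (f : X ⟶ Y) (g : Y ⟶ Z)
    (h : MoreMor.IsIndQuasiAffineHom (f ≫ g)) : MoreMor.IsIndQuasiAffineHom f := by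
  rw [isIndQuasiAffineHom_iff] at h ⊢
  intro V hV U hU hc
  refine isQuasiAffine_of_local_base f hV hU hc fun y hy => ?_
  obtain ⟨_, ⟨(W : Z.Opens), hW, rfl⟩, hyW, -⟩ :=
    Z.isBasis_affineOpens.exists_subset_of_mem_open (Set.mem_univ (g y)) isOpen_univ
  obtain ⟨_, ⟨(O : Y.Opens), hO, rfl⟩, hyO, hOle⟩ :=
    Y.isBasis_affineOpens.exists_subset_of_mem_open (show y ∈ V ⊓ g ⁻¹ᵁ W from ⟨hy, hyW⟩) (V ⊓ g ⁻¹ᵁ W).2
  refine ⟨O, hO, hyO, fun z hz => (hOle hz).1, ?_⟩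
  exact h W hW _ (fun x hx => (hOle hx.2).2)
    (isCompact_inf_preimage f hU hc hV.isQuasiSeparated (fun z hz => (hOle hz).1) hO.isCompact)

theorem of_comp {X Y Z : Scheme.{u}} (f : X ⟶ Y) (g : Y ⟶ Z) [QuasiSeparated g]
    (h : Mor2.IsQuasiAffine (f ≫ g)) : Mor2.IsQuasiAffine f := by
  have := h.1
  have hqc : QuasiCompact f := QuasiCompact.of_comp f g
  refine ⟨hqc, fun V hV => ?_⟩
  exact (isIndQuasiAffineHom_iff f).mp (ind_of_comp f g (ind_of_qa _ h)) V hV _ le_rfl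
    (f.isCompact_preimage hV.isCompact)

theorem ind_baseChange {X S X' S' : Scheme.{u}} (f : X ⟶ S) (f' : X' ⟶ S') (g' : X' ⟶ X) (g : S' ⟶ S)
    (hpb : IsPullback g' f' f g) (hf : MoreMor.IsIndQuasiAffineHom f) : MoreMor.IsIndQuasiAffineHom f' := by
  rw [isIndQuasiAffineHom_iff] at hf ⊢
  intro V' hV' U hU hc
  refine isQuasiAffine_of_local_base f' hV' hU hc fun y hy => ?_
  obtain ⟨_, ⟨(V : S.Opens), hV, rfl⟩, hyV, -⟩ :=
    S.isBasis_affineOpens.exists_subset_of_mem_open (Set.mem_univ (g y)) isOpen_univ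
  obtain ⟨_, ⟨(O : S'.Opens), hO, rfl⟩, hyO, hOle⟩ :=
    S'.isBasis_affineOpens.exists_subset_of_mem_open (show y ∈ V' ⊓ g ⁻¹ᵁ V from ⟨hy, hyV⟩) (V' ⊓ g ⁻¹ᵁ V).2
  refine ⟨O, hO, hyO, fun z hz => (hOle hz).1, ?_⟩
  set M : X'.Opens := U ⊓ f' ⁻¹ᵁ O with hM
  have hMc : IsCompact (M : Set X') :=
    isCompact_inf_preimage f' hU hc hV'.isQuasiSeparated (fun z hz => (hOle hz).1) hO.isCompact
  have hO2 : O ≤ g ⁻¹ᵁ V := fun z hz => (hOle hz).2
  obtain ⟨W, hWc, hMW, hWV⟩ := exists_compact_open (hMc.image g'.continuous) (f ⁻¹ᵁ V) (by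
    rintro _ ⟨x, hx, rfl⟩
    show f (g' x) ∈ V
    rw [← Scheme.Hom.comp_apply, hpb.w, Scheme.Hom.comp_apply]
    exact (hOle hx.2).2)
  have hQW := hf V hV W hWV hWc
  have : IsAffine (O : Scheme.{u}) := hO
  have : IsAffine (V : Scheme.{u}) := hV
  have : IsAffineHom (pullback.fst (f.resLE V W hWV) (g.resLE V O hO2)) :=
    MorphismProperty.pullback_fst _ _ (inferInstance : IsAffineHom (g.resLE V O hO2))
  have hA : Scheme.IsQuasiAffine (pullback (f.resLE V W hWV) (g.resLE V O hO2)) :=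
    Scheme.IsQuasiAffine.of_isAffineHom (pullback.fst (f.resLE V W hWV) (g.resLE V O hO2))
  have hMW' : M ≤ g' ⁻¹ᵁ W := fun x hx => hMW ⟨x, hx, rfl⟩
  have hMO : M ≤ f' ⁻¹ᵁ O := inf_le_right
  have hw : g'.resLE W M hMW' ≫ f.resLE V W hWV = f'.resLE O M hMO ≫ g.resLE V O hO2 := by
    rw [← cancel_mono V.ι]
    simp [hpb.w]
  let τ : (M : Scheme.{u}) ⟶ pullback (f.resLE V W hWV) (g.resLE V O hO2) :=
    pullback.lift (g'.resLE W M hMW') (f'.resLE O M hMO) hw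
  let m : pullback (f.resLE V W hWV) (g.resLE V O hO2) ⟶ X' :=
    hpb.lift (pullback.fst _ _ ≫ W.ι) (pullback.snd _ _ ≫ O.ι) (by
      rw [Category.assoc, Category.assoc, ← f.resLE_comp_ι hWV, ← g.resLE_comp_ι hO2,
        pullback.condition_assoc])
  have hτm : τ ≫ m = M.ι := by
    apply hpb.hom_ext
    · rw [Category.assoc, hpb.lift_fst, pullback.lift_fst_assoc, Scheme.Hom.resLE_comp_ι]
    · rw [Category.assoc, hpb.lift_snd, pullback.lift_snd_assoc, Scheme.Hom.resLE_comp_ι]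
  have : IsImmersion (τ ≫ m) := by rw [hτm]; infer_instance
  have : IsImmersion τ := IsImmersion.of_comp τ m
  have : CompactSpace (M : Scheme.{u}) := isCompact_iff_compactSpace.mp hMc
  exact Scheme.IsQuasiAffine.of_isImmersion τ

theorem ind_iff_qa_over_qcqs {X Y : Scheme.{u}} (f : X ⟶ Y) :
    MoreMor.IsIndQuasiAffineHom f ↔ ∀ (V : Y.Opens), IsCompact (V : Set Y) → IsQuasiSeparated (V : Set Y) →
      ∀ (U : X.Opens) (hUV : U ≤ f ⁻¹ᵁ V), IsCompact (U : Set X) →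
        MoreMor.IsQuasiAffineHom (f.resLE V U hUV) := by
  rw [isIndQuasiAffineHom_iff]
  constructor
  · intro h V _ hVq U hU hc
    refine ⟨quasiCompact_resLE f hU hc hVq, fun O hO => ?_⟩
    refine (isQuasiAffine_image_iff U.ι _).mp (isQuasiAffine_of_isImmersion'
      (X.isoOfEq (image_resLE_preimage f hU O)).hom ?_)
    have hO' : IsAffineOpen (V.ι ''ᵁ O) := hO.image_of_isOpenImmersion _
    exact h _ hO' _ inf_le_right (isCompact_inf_preimage f hU hc hVq (V.ι_image_le O) hO'.isCompact)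
  · intro h V hV U hU hc
    have : IsAffine (V : Scheme.{u}) := hV
    have h1 := (h V hV.isCompact hV.isQuasiSeparated U hU hc).2 ⊤ (isAffineOpen_top _)
    exact isQuasiAffine_of_isImmersion' ((Scheme.topIso (U : Scheme.{u})).inv ≫
      ((U : Scheme.{u}).isoOfEq (Scheme.Hom.preimage_top (f := f.resLE V U hU)).symm).hom) h1

/-- A quasi-compact topological embedding is quasi-affine. -/
theorem of_isEmbedding {X Y : Scheme.{u}} (f : X ⟶ Y) [QuasiCompact f]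
    (hf : Topology.IsEmbedding f.base) : Mor2.IsQuasiAffine f := by
  refine ⟨inferInstance, fun V hV => ?_⟩
  have : IsAffine (V : Scheme.{u}) := hV
  have : CompactSpace ↥((f ⁻¹ᵁ V : X.Opens) : Scheme.{u}) :=
    QuasiCompact.compactSpace_of_compactSpace (f ∣_ V)
  refine .of_forall_exists_mem_basicOpen _ fun x => ?_
  obtain ⟨_, ⟨(U : X.Opens), hU, rfl⟩, hxU, hUle⟩ :=
    X.isBasis_affineOpens.exists_subset_of_mem_open (show x.1 ∈ f ⁻¹ᵁ V from x.2) (f ⁻¹ᵁ V).2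
  obtain ⟨O, hO, hOU⟩ := hf.isInducing.isOpen_iff.mp U.2
  have hxO : f x.1 ∈ O := by
    have h2 : x.1 ∈ f ⁻¹' O := by rw [hOU]; exact hxU
    exact h2
  obtain ⟨_, ⟨_, ⟨r, rfl⟩, rfl⟩, hxr, hrO⟩ := (isBasis_basicOpen (V : Scheme.{u})).exists_subset_of_mem_open
    (show (f ∣_ V) x ∈ V.ι ⁻¹' O from by
      show V.ι ((f ∣_ V) x) ∈ O
      rw [← Scheme.Hom.comp_apply, morphismRestrict_ι, Scheme.Hom.comp_apply]; exact hxO)
    (hO.preimage V.ι.continuous)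
  refine ⟨(f ∣_ V).appTop r, ?_, by rw [← Scheme.preimage_basicOpen_top]; exact hxr⟩
  set Z : X.Opens := f ⁻¹ᵁ V with hZ
  have hUZ : U ≤ Z := fun y hy => hUle hy
  have hU' : IsAffineOpen (Z.ι ⁻¹ᵁ U) := hU.preimage_of_isOpenImmersion Z.ι (by
    rw [Scheme.Opens.opensRange_ι]; exact hUZ)
  have hle : (f ∣_ V) ⁻¹ᵁ (V : Scheme.{u}).basicOpen r ≤ Z.ι ⁻¹ᵁ U := fun y hy => by
    have h1 : V.ι ((f ∣_ V) y) ∈ O := hrO hy
    rw [← Scheme.Hom.comp_apply, morphismRestrict_ι, Scheme.Hom.comp_apply] at h1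
    have h2 : Z.ι y ∈ f ⁻¹' O := h1
    rw [hOU] at h2
    exact h2
  rw [Scheme.preimage_basicOpen_top] at hle
  have h3 : (Z : Scheme.{u}).basicOpen ((f ∣_ V).appTop r) =
      (Z : Scheme.{u}).basicOpen ((Z : Scheme.{u}).presheaf.map (homOfLE (le_top : Z.ι ⁻¹ᵁ U ≤ ⊤)).op
        ((f ∣_ V).appTop r)) := by
    rw [Scheme.basicOpen_res]; exact (inf_eq_right.mpr hle).symm
  rw [h3]
  exact hU'.basicOpen _

end Groth.Agent.QuasiAffMor
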